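import Cfsg.Agent.H749.RowO

/-!
# Orthogonal spaces over finite fields as sums of `2d`-dimensional blocks (helper388, task 3492, S4243)

`Str p d k q` : `q` is similar to the orthogonal sum of `k` blocks `L × L` (`|L : F| = d`) with an isometry of order
`p ^ a = (q ^ (2 d) - 1)_p` and a rest, and the `p`-part of the order of the isometry group is at most `p ^ (a k) (k!)_p`.
The proofs are those of helper749 (`H749.RowO`).
-/

set_option autoImplicit false
set_option linter.unusedSectionVars false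
set_option linter.unusedVariables false

namespace Cfsg.Agent.H388.KW

open QuadraticMap Cfsg.Agent.LieClassical.OrthCore Cfsg.Agent.LieClassical.OrthTrans Cfsg.Agent.GenOrth
open Cfsg.Agent.LieClassical.OrthForms Cfsg.Agent.H749
open Cfsg.Agent

variable {p : ℕ} [hp : Fact p.Prime] {F : Type} [Field F] [Finite F]

/-- The block structure. -/
def Str (p d k : ℕ) {F : Type} [Field F] {κ : Type} [Fintype κ] [DecidableEq κ] (q : (κ → F) → F) : Prop :=
  ∃ (L : Type) (_ : Field L) (_ : Finite L) (_ : Algebra F L) (L' : Type) (_ : Field L') (_ : Algebra L L') (ζ : L'ˣ)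
    (τ : L) (W₀ : Type) (_ : AddCommGroup W₀) (_ : Module F W₀) (_ : FiniteDimensional F W₀) (Q₀ : QuadraticForm F W₀),
    Module.finrank F L = d ∧ algebraMap L L' τ = (ζ : L') + ((ζ⁻¹ : L'ˣ) : L') ∧ ζ ^ 2 ≠ 1 ∧
      orderOf ζ = p ^ vp p (((Nat.card F : ℤ) ^ 2) ^ d - 1) ∧ Nondeg Q₀ ∧ Sim (sumQuad (ι := Fin k) (qF F τ) Q₀) q ∧
      (Nat.card (Cfsg.isometryGroup F q)).factorization p ≤
        k * vp p (((Nat.card F : ℤ) ^ 2) ^ d - 1) + k.factorial.factorization p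

theorem strOrth {d k : ℕ} {L : Type} [Field L] [Finite L] [Algebra F L] (hLrank : Module.finrank F L = d) {L' : Type}
    [Field L'] [Algebra L L'] {τ : L} {ζ : L'ˣ} (hτ : algebraMap L L' τ = (ζ : L') + ((ζ⁻¹ : L'ˣ) : L')) (hζ : ζ ^ 2 ≠ 1)
    (ha0 : vp p (((Nat.card F : ℤ) ^ 2) ^ d - 1) ≠ 0)
    (hζo : orderOf ζ = p ^ vp p (((Nat.card F : ℤ) ^ 2) ^ d - 1)) {W₀ : Type} [AddCommGroup W₀]
    [Module F W₀] [FiniteDimensional F W₀] {Q₀ : QuadraticForm F W₀} (hQ₀ : Nondeg Q₀)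
    {κ : Type} [Fintype κ] [DecidableEq κ] {q : (κ → F) → F} (hsim : Sim (sumQuad (ι := Fin k) (qF F τ) Q₀) q)
    (hord : (Nat.card (Cfsg.isometryGroup F q)).factorization p ≤
      k * vp p (((Nat.card F : ℤ) ^ 2) ^ d - 1) + k.factorial.factorization p) : Str p d k q :=
  ⟨L, _, inferInstance, inferInstance, L', _, inferInstance, ζ, τ, W₀, _, _, inferInstance, Q₀, hLrank, hτ, hζ, hζo, hQ₀, hsim, hord⟩

theorem strOdd (hp2 : p ≠ 2) (hodd : Odd (Nat.card F)) {d : ℕ}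
    (hd : orderOf (((Nat.card F : ℤ) ^ 2 : ℤ) : ZMod p) = d) (hd0 : d ≠ 0) {n : ℕ} (hn2 : 2 ≤ n) :
    Str p d (n / d) (Cfsg.quadFormOdd n F) := by
  have hpq : ¬ p ∣ Nat.card F := fun h =>
    not_dvd_of_order hd hd0 (dvd_pow (Int.natCast_dvd_natCast.2 h) two_ne_zero)
  have hpF : (p : F) ≠ 0 := cast_ne_zero_of hpq
  have := Fintype.ofFinite F
  have h2 : (2 : F) ≠ 0 := by
    intro h2
    have h3 : ((2 : ℕ) : F) = 0 := by exact_mod_cast h2
    exact cast_ne_zero_of (p := 2) (F := F) (by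
      rw [Nat.odd_iff] at hodd
      omega) h3
  obtain ⟨L, _, _, _, L', _, _, ζ, τ, hLrank, hτ, hζ, ha0, hζo⟩ := exists_plane (p := p) (F := F) hp2 hd hd0
  have hLfin : Module.Finite F L := Module.Finite.of_finite
  have hker : n / d * d ≤ n := Nat.div_mul_le_self n d
  have hnd : Nondeg (sumQuad (ι := Fin (n / d)) (qF F τ) (oddForm (n - n / d * d) F)) :=
    nondeg_sumQuad (nondeg_qF (tau_sq_ne hτ hζ)) (nondeg_oddForm _ F h2)
  have hrank : Module.finrank F ((Fin (n / d) → L × L) × (Unit ⊕ (Fin (n - n / d * d) ⊕ Fin (n - n / d * d)) → F)) =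
      2 * n + 1 := by
    rw [Module.finrank_prod, Module.finrank_pi_fintype, Module.finrank_fintype_fun_eq_card]
    simp only [Finset.sum_const, Finset.card_univ, Fintype.card_fin, Fintype.card_sum, Fintype.card_unit,
      Module.finrank_prod, hLrank, smul_eq_mul]
    have : n / d * (d + d) = 2 * (n / d * d) := by ring
    omega
  have hsim : Sim (sumQuad (ι := Fin (n / d)) (qF F τ) (oddForm (n - n / d * d) F)) (Cfsg.quadFormOdd n F) := by
    rcases normal_form (2 * n + 1) hnd hrank with ⟨k, hk, h⟩ | ⟨k, hk, h⟩ | ⟨k, hk, h⟩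
    · have : k = n := by omega
      rwa [this] at h
    · omega
    · omega
  refine strOrth hLrank hτ hζ ha0 hζo (nondeg_oddForm _ F h2) hsim ?_
  rw [S0286.result (F := F) (q := Nat.card F) Nat.card_eq_fintype_card.symm hodd n,
    vp_odd hp2 Finite.one_lt_card hd hd0]

theorem strEven (hp2 : p ≠ 2) {d : ℕ} (hd : orderOf (((Nat.card F : ℤ) ^ 2 : ℤ) : ZMod p) = d) (hd0 : d ≠ 0) {n k : ℕ}
    (hkd : k * d + 1 ≤ n) (hn3 : 3 ≤ n) {κ : Type} [Fintype κ] [DecidableEq κ] {Q : QuadraticForm F (κ → F)}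
    (hQ : Nondeg Q) (hκ : Fintype.card κ = 2 * n)
    (hord : (Nat.card (Cfsg.isometryGroup F Q)).factorization p ≤
      k * vp p (((Nat.card F : ℤ) ^ 2) ^ d - 1) + k.factorial.factorization p) :
    Str p d k (⇑Q) := by
  have hpq : ¬ p ∣ Nat.card F := fun h =>
    not_dvd_of_order hd hd0 (dvd_pow (Int.natCast_dvd_natCast.2 h) two_ne_zero)
  have hpF : (p : F) ≠ 0 := cast_ne_zero_of hpq
  obtain ⟨L, _, _, _, L', _, _, ζ, τ, hLrank, hτ, hζ, ha0, hζo⟩ := exists_plane (p := p) (F := F) hp2 hd hd0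
  have hLfin : Module.Finite F L := Module.Finite.of_finite
  have hU : Nondeg (QuadraticMap.pi fun _ : Fin k => qF F τ) := nondeg_pi (nondeg_qF (tau_sq_ne hτ hζ))
  have hrank : Module.finrank F (Fin k → L × L) = 2 * (k * d) := by
    rw [Module.finrank_pi_fintype]
    simp only [Finset.sum_const, Finset.card_univ, Fintype.card_fin, Module.finrank_prod, hLrank, smul_eq_mul]
    ring
  obtain ⟨j, hj⟩ := exists_embed (k * d) hU hQ hrank (by
    rw [Module.finrank_fintype_fun_eq_card, hκ]; omega)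
  obtain ⟨K, Φ, hΦ, hK⟩ := exists_compl hU hQ j hj
  have hsim : Sim (sumQuad (ι := Fin k) (qF F τ) (Q.comp K.subtype)) Q := by
    refine ⟨1, one_ne_zero, Φ.symm, fun x => ?_⟩
    obtain ⟨⟨u, w⟩, rfl⟩ := Φ.surjective x
    rw [LinearEquiv.symm_apply_apply, hΦ, one_mul, sumQuad_apply _ _ _ 0, sumForm, QuadraticMap.pi_apply]
    rfl
  exact strOrth hLrank hτ hζ ha0 hζo hK hsim hord

theorem strExact (hp2 : p ≠ 2) {d : ℕ} (hd : orderOf (((Nat.card F : ℤ) ^ 2 : ℤ) : ZMod p) = d) (hd0 : d ≠ 0) {n : ℕ}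
    (hn3 : 3 ≤ n) (s : ℤ) (hss : s * s = 1) (hs : (p : ℤ) ∣ (Nat.card F : ℤ) ^ n - s) {κ : Type} [Fintype κ]
    [DecidableEq κ] {q : (κ → F) → F} {c : ℕ}
    (hq : (Nat.card (Cfsg.isometryGroup F q) : ℤ) = 2 * (Nat.card F : ℤ) ^ c * (((Nat.card F : ℤ) ^ n - s) *
      ∏ i ∈ Finset.range (n - 1), (((Nat.card F : ℤ) ^ 2) ^ (i + 1) - 1)))
    (halt : ∀ {V : Type} [AddCommGroup V] [Module F V] [FiniteDimensional F V] (Q : QuadraticForm F V), Nondeg Q →
      Module.finrank F V = 2 * n → (∃ j : (κ → F) ≃ₗ[F] V, ∀ x, Q (j x) = q x) ∨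
        ∃ (κ' : Type) (_ : Fintype κ') (_ : DecidableEq κ') (q' : (κ' → F) → F), Sim Q q' ∧
          (Nat.card (Cfsg.isometryGroup F q') : ℤ) = 2 * (Nat.card F : ℤ) ^ c * (((Nat.card F : ℤ) ^ n - (-s)) *
            ∏ i ∈ Finset.range (n - 1), (((Nat.card F : ℤ) ^ 2) ^ (i + 1) - 1))) :
    Str p d (n / d) q := by
  have hpq : ¬ p ∣ Nat.card F := fun h =>
    not_dvd_of_order hd hd0 (dvd_pow (Int.natCast_dvd_natCast.2 h) two_ne_zero)
  have hpF : (p : F) ≠ 0 := cast_ne_zero_of hpq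
  have hq1 : 1 < Nat.card F := Finite.one_lt_card
  have hp0 := hp.out.pos
  have hn1 : 1 ≤ n := by omega
  obtain ⟨L, _, _, _, L', _, _, ζ, τ, hLrank, hτ, hζ, ha0, hζo⟩ := exists_plane (p := p) (F := F) hp2 hd hd0
  have hLfin : Module.Finite F L := Module.Finite.of_finite
  have hdn : d ∣ n := d_dvd hd hss hs
  have hker : n / d * d = n := Nat.div_mul_cancel hdn
  have hnd : Nondeg (sumQuad (ι := Fin (n / d)) (qF F τ) (0 : QuadraticForm F (Fin 0 → F))) :=
    nondeg_sumQuad (nondeg_qF (tau_sq_ne hτ hζ)) nondeg_zero'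
  have hrank : Module.finrank F ((Fin (n / d) → L × L) × (Fin 0 → F)) = 2 * n := by
    rw [Module.finrank_prod, Module.finrank_pi_fintype, Module.finrank_fin_fun]
    simp only [Finset.sum_const, Finset.card_univ, Fintype.card_fin, Module.finrank_prod, hLrank, smul_eq_mul]
    have : n / d * (d + d) = 2 * (n / d * d) := by ring
    omega
  rcases halt _ hnd hrank with ⟨j, hj⟩ | ⟨κ', _, _, q', ⟨c', hc', j, hj⟩, hq'⟩
  · refine strOrth hLrank hτ hζ ha0 hζo nondeg_zero' ⟨1, one_ne_zero, j, fun x => by rw [hj, one_mul]⟩ ?_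
    rw [vp_even hp2 hq1 hd hd0 hn1 hss hs hq]
  · exfalso
    have hS : SimF j (fun u _ => q' u) (sumForm (ι := Fin (n / d)) (fun u _ : L × L => qF F τ u)
        (fun u _ : Fin 0 → F => (0 : QuadraticForm F (Fin 0 → F)) u)) c' :=
      ⟨hc', fun x y => by rw [sumForm_quad]; exact hj x⟩
    have hfin : Finite (Iso (sumForm (ι := Fin (n / d)) (fun u _ : L × L => qF F τ u)
        (fun u _ : Fin 0 → F => (0 : QuadraticForm F (Fin 0 → F)) u))) := Finite.of_equiv _ (isoEquiv hS).toEquiv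
    have h1 := vp_isom_ge (p := p) (ι := Fin (n / d)) (b := fun u _ : L × L => qF F τ u)
      (fun u _ : Fin 0 → F => (0 : QuadraticForm F (Fin 0 → F)) u) (z := rs F (zL τ)) (by
        intro u _
        show qF F τ (zL τ u) = qF F τ u
        rw [qF_apply, qF_apply, nQ_zL]) (a := vp p (((Nat.card F : ℤ) ^ 2) ^ d - 1)) (by rw [orderOf_rs hτ hζ, hζo])
    have h2 : Nat.card (Iso (sumForm (ι := Fin (n / d)) (fun u _ : L × L => qF F τ u)
        (fun u _ : Fin 0 → F => (0 : QuadraticForm F (Fin 0 → F)) u))) = Nat.card (Cfsg.isometryGroup F q') :=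
      (Nat.card_congr (isoEquiv hS).toEquiv).symm
    have hs' : ¬ (p : ℤ) ∣ (Nat.card F : ℤ) ^ n - (-s) := by
      intro h
      have h3 : (p : ℤ) ∣ 2 * s := by
        have := dvd_sub h hs
        have e2 : ((Nat.card F : ℤ) ^ n - -s) - ((Nat.card F : ℤ) ^ n - s) = 2 * s := by ring
        rwa [e2] at this
      have h4 : (p : ℤ) ∣ 2 := by
        have := dvd_mul_of_dvd_left h3 s
        rwa [mul_assoc, hss, mul_one] at this
      exact hp2 ((Nat.prime_dvd_prime_iff_eq hp.out Nat.prime_two).1 (Int.natCast_dvd_natCast.1 (by exact_mod_cast h4)))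
    have hne : (Nat.card F : ℤ) ^ n - (-s) ≠ 0 := fun h => hs' (by rw [h]; exact dvd_zero _)
    rw [h2, vp_even_not hp2 hq1 hd hd0 hne hs' hq', Fintype.card_fin] at h1
    obtain ⟨k, hk⟩ : ∃ k, n / d = k + 1 := Nat.exists_eq_succ_of_ne_zero (by
      intro h0
      rw [h0] at hker
      omega)
    have hk' : (n - 1) / d = k := by
      have h5 : n = (k + 1) * d := by rw [← hk, hker]
      have h6 : n - 1 = d - 1 + k * d := by
        rw [h5, add_mul, one_mul]
        have := Nat.pos_of_ne_zero hd0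
        omega
      rw [h6, Nat.add_mul_div_right _ _ (Nat.pos_of_ne_zero hd0), Nat.div_eq_of_lt (by
        have := Nat.pos_of_ne_zero hd0
        omega), zero_add]
    rw [hk, hk', Nat.factorial_succ, Nat.factorization_mul (Nat.succ_ne_zero _) (Nat.factorial_ne_zero _),
      Finsupp.add_apply, add_mul, one_mul] at h1
    have := Nat.pos_of_ne_zero ha0
    omega

theorem strPlus (hp2 : p ≠ 2) {d : ℕ} (hd : orderOf (((Nat.card F : ℤ) ^ 2 : ℤ) : ZMod p) = d) (hd0 : d ≠ 0) {n k : ℕ}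
    (hn3 : 3 ≤ n) (hn : ((p : ℤ) ∣ (Nat.card F : ℤ) ^ n - 1 ∧ k = n / d) ∨
      (¬ (p : ℤ) ∣ (Nat.card F : ℤ) ^ n - 1 ∧ k = (n - 1) / d)) :
    Str p d k (Cfsg.quadFormPlus n F) := by
  have hn1 : 1 ≤ n := by omega
  have := Fintype.ofFinite F
  have hq1 : 1 < Nat.card F := Finite.one_lt_card
  have e1 : ((Nat.card F ^ n - 1 : ℕ) : ℤ) = (Nat.card F : ℤ) ^ n - 1 := by
    rw [Nat.cast_sub (Nat.one_le_pow _ _ (by omega)), Nat.cast_pow]; rfl
  have e2 : ((Nat.card F ^ n + 1 : ℕ) : ℤ) = (Nat.card F : ℤ) ^ n - (-1) := by push_cast; ring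
  have hc1 := cast_isom hq1 e1 (S0287.result (F := F) (q := Nat.card F) Nat.card_eq_fintype_card.symm n hn1)
  rcases hn with ⟨h1, rfl⟩ | ⟨h1, rfl⟩
  · refine strExact hp2 hd hd0 hn3 1 (by norm_num) h1 hc1 ?_
    intro V _ _ _ Q hQ hV
    by_cases hP : H955.IsPlus Q
    · obtain ⟨e, he⟩ := H955.exists_plus_equiv n Q hQ hV hP
      refine Or.inl ⟨e.symm, fun x => ?_⟩
      rw [← he, e.apply_symm_apply, LieClassical.QuadForms.coe_plusForm]
    · obtain ⟨a, b, hab⟩ := H955.exists_aniso_coeff F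
      obtain ⟨m, rfl⟩ := Nat.exists_eq_succ_of_ne_zero (show n ≠ 0 by omega)
      obtain ⟨e, he⟩ := H955.exists_minus_equiv hab m Q hQ hV hP
      refine Or.inr ⟨_, inferInstance, inferInstance, Cfsg.quadFormMinus m F a b, ⟨1, one_ne_zero, e.symm, fun x => ?_⟩, ?_⟩
      · rw [← he, e.apply_symm_apply, LieClassical.QuadForms.coe_minusForm, one_mul]
      · exact cast_isom hq1 e2 (S0288.result (F := F) (q := Nat.card F) Nat.card_eq_fintype_card.symm (m + 1) hn1 a b hab)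
  · have hkd : (n - 1) / d * d + 1 ≤ n := by
      have := Nat.div_mul_le_self (n - 1) d
      omega
    have hne : (Nat.card F : ℤ) ^ n - 1 ≠ 0 := fun h => h1 (by rw [h]; exact dvd_zero _)
    rw [← coe_plusForm] at hc1 ⊢
    refine strEven hp2 hd hd0 hkd hn3 (nondeg_plusForm n F) (by simp; ring) ?_
    rw [vp_even_not hp2 hq1 hd hd0 hne h1 hc1]

theorem strMinus (hp2 : p ≠ 2) {d : ℕ} (hd : orderOf (((Nat.card F : ℤ) ^ 2 : ℤ) : ZMod p) = d) (hd0 : d ≠ 0) {n k : ℕ}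
    (hn3 : 3 ≤ n) (a b : F) (hab : ∀ z₁ z₂ : F, z₁ ^ 2 + a * z₁ * z₂ + b * z₂ ^ 2 = 0 → z₁ = 0 ∧ z₂ = 0)
    (hn : ((p : ℤ) ∣ (Nat.card F : ℤ) ^ n + 1 ∧ k = n / d) ∨
      (¬ (p : ℤ) ∣ (Nat.card F : ℤ) ^ n + 1 ∧ k = (n - 1) / d)) :
    Str p d k (Cfsg.quadFormMinus (n - 1) F a b) := by
  have hn1 : 1 ≤ n := by omega
  have := Fintype.ofFinite F
  have hq1 : 1 < Nat.card F := Finite.one_lt_card
  have e1 : ((Nat.card F ^ n - 1 : ℕ) : ℤ) = (Nat.card F : ℤ) ^ n - (-(-1)) := by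
    rw [Nat.cast_sub (Nat.one_le_pow _ _ (by omega)), Nat.cast_pow]; ring
  have e2 : ((Nat.card F ^ n + 1 : ℕ) : ℤ) = (Nat.card F : ℤ) ^ n - (-1) := by push_cast; ring
  have hc1 := cast_isom hq1 e2 (S0288.result (F := F) (q := Nat.card F) Nat.card_eq_fintype_card.symm n hn1 a b hab)
  have e3 : (Nat.card F : ℤ) ^ n + 1 = (Nat.card F : ℤ) ^ n - (-1) := by ring
  rw [e3] at hn
  rcases hn with ⟨h1, rfl⟩ | ⟨h1, rfl⟩
  · refine strExact hp2 hd hd0 hn3 (-1) (by norm_num) h1 hc1 ?_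
    intro V _ _ _ Q hQ hV
    by_cases hP : H955.IsPlus Q
    · obtain ⟨e, he⟩ := H955.exists_plus_equiv n Q hQ hV hP
      refine Or.inr ⟨_, inferInstance, inferInstance, Cfsg.quadFormPlus n F, ⟨1, one_ne_zero, e.symm, fun x => ?_⟩, ?_⟩
      · rw [← he, e.apply_symm_apply, LieClassical.QuadForms.coe_plusForm, one_mul]
      · exact cast_isom hq1 e1 (S0287.result (F := F) (q := Nat.card F) Nat.card_eq_fintype_card.symm n hn1)
    · obtain ⟨m, rfl⟩ := Nat.exists_eq_succ_of_ne_zero (show n ≠ 0 by omega)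
      obtain ⟨e, he⟩ := H955.exists_minus_equiv hab m Q hQ hV hP
      refine Or.inl ⟨e.symm, fun x => ?_⟩
      rw [← he, e.apply_symm_apply, LieClassical.QuadForms.coe_minusForm]
      rfl
  · have hkd : (n - 1) / d * d + 1 ≤ n := by
      have := Nat.div_mul_le_self (n - 1) d
      omega
    have hne : (Nat.card F : ℤ) ^ n - (-1) ≠ 0 := fun h => h1 (by rw [h]; exact dvd_zero _)
    rw [← coe_minusForm] at hc1 ⊢
    refine strEven hp2 hd hd0 hkd hn3 (nondeg_minusForm (n - 1) F a b hab) (by simp; omega) ?_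
    rw [vp_even_not hp2 hq1 hd hd0 hne h1 hc1]

end Cfsg.Agent.H388.KW
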