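import Cfsg.Agent.H388.KW.Wr
import Cfsg.Agent.H749.SumForm
import Cfsg.Agent.H749.MatIso
import Cfsg.Agent.GenOrth.Normal
import Cfsg.Agent.LieClassical.OrthFinite

/-!
# Orthogonal groups over `F_3`, `p = 5` (helper388, task 3492, S4243)

* `three_dvd_sylow` : `W` of dimension 4 over `F_3`, `O(W)` with a Sylow 5-subgroup of order 5: `3 ∣ |Syl_5(O(W))|`;
* `eq_one_of_sum` : in the isometry group of a form similar to `W^ι ⊥ W₀` of 5-part `≤ 5^ι (ι!)_5`, the 5-elements of a
  3'-subgroup with `PSub 5` are trivial.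
-/

set_option autoImplicit false
set_option linter.unusedSectionVars false

open Subgroup Equiv

namespace Cfsg.Agent.H388.KW

open Cfsg.Agent.H146.KW Cfsg.Agent.H838.KW QuadraticMap
open Cfsg.Agent.H749 (Iso sumForm pm pm_fst pm_snd pm_mem sumQuad sumForm_quad isoEquiv SimF)
open Cfsg.Agent.LieClassical.OrthCore Cfsg.Agent.LieClassical.OrthFinite Cfsg.Agent.GenOrth

section block

variable {F : Type*} [Field F] {ι : Type*} [Fintype ι] [DecidableEq ι] {W W₀ : Type*} [AddCommGroup W] [Module F W]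
  [AddCommGroup W₀] [Module F W₀]

/-- block-diagonal maps -/
def dd : (ι → (W ≃ₗ[F] W)) × (W₀ ≃ₗ[F] W₀) →* (((ι → W) × W₀) ≃ₗ[F] ((ι → W) × W₀)) where
  toFun x := LinearEquiv.prodCongr (LinearEquiv.piCongrRight x.1) x.2
  map_one' := rfl
  map_mul' _ _ := rfl

theorem dd_fst (x : (ι → (W ≃ₗ[F] W)) × (W₀ ≃ₗ[F] W₀)) (v : (ι → W) × W₀) (i : ι) : (dd x v).1 i = x.1 i (v.1 i) := rfl

theorem dd_snd (x : (ι → (W ≃ₗ[F] W)) × (W₀ ≃ₗ[F] W₀)) (v : (ι → W) × W₀) : (dd x v).2 = x.2 v.2 := rfl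

theorem pm_conj_dd (π : Perm ι) (x : (ι → (W ≃ₗ[F] W)) × (W₀ ≃ₗ[F] W₀)) :
    pm π * dd x * (pm π)⁻¹ = dd (fun i => x.1 (π.symm i), x.2) := by
  rw [mul_inv_eq_iff_eq_mul]
  refine LinearEquiv.ext fun v => Prod.ext (funext fun i => ?_) rfl
  show (pm (F := F) π (dd x v)).1 i = (dd (fun i => x.1 (π.symm i), x.2) (pm (F := F) π v)).1 i
  rw [pm_fst, dd_fst, dd_fst, pm_fst]

theorem dd_mem {Q : QuadraticForm F W} {Q₀ : QuadraticForm F W₀} {x : (ι → (W ≃ₗ[F] W)) × (W₀ ≃ₗ[F] W₀)}
    (hx : ∀ i, x.1 i ∈ O Q) (hx0 : x.2 ∈ O Q₀) :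
    dd x ∈ Iso (sumForm (ι := ι) (fun u _ : W => Q u) (fun u _ : W₀ => Q₀ u)) := by
  intro u v
  unfold sumForm
  simp only [dd_fst, dd_snd]
  congr 1
  · exact Finset.sum_congr rfl fun i _ => hx i _
  · exact hx0 _

theorem eq_one_of_dd_mul_pm [Nontrivial W] {x : (ι → (W ≃ₗ[F] W)) × (W₀ ≃ₗ[F] W₀)} {π : Perm ι}
    (h : (dd x : ((ι → W) × W₀) ≃ₗ[F] ((ι → W) × W₀)) * pm π = 1) : x = 1 ∧ π = 1 := by
  have hπ : π = 1 := by
    obtain ⟨w, hw⟩ := exists_ne (0 : W)
    by_contra hc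
    obtain ⟨i, hi⟩ : ∃ i, π i ≠ i := by
      by_contra h2
      push Not at h2
      exact hc (Perm.ext h2)
    have h1 := congrArg (fun g : (((ι → W) × W₀) ≃ₗ[F] ((ι → W) × W₀)) => (g (Pi.single i w, 0)).1 (π i)) h
    have h2 : (((dd x : ((ι → W) × W₀) ≃ₗ[F] ((ι → W) × W₀)) * pm π : ((ι → W) × W₀) ≃ₗ[F] ((ι → W) × W₀))
        (Pi.single i w, 0)).1 (π i) = x.1 (π i) w := by
      show x.1 (π i) ((Pi.single i w : ι → W) (π.symm (π i))) = _
      rw [Equiv.symm_apply_apply, Pi.single_eq_same]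
    have h3 : ((1 : ((ι → W) × W₀) ≃ₗ[F] ((ι → W) × W₀)) (Pi.single i w, 0)).1 (π i) = 0 := by
      show (Pi.single i w : ι → W) (π i) = 0
      rw [Pi.single_eq_of_ne hi]
    have h4 : x.1 (π i) w = 0 := h2.symm.trans (h1.trans h3)
    exact hw ((x.1 (π i)).map_eq_zero_iff.1 h4)
  refine ⟨?_, hπ⟩
  rw [hπ, map_one, mul_one] at h
  refine Prod.ext (funext fun i => LinearEquiv.ext fun w => ?_) (LinearEquiv.ext fun w => ?_)
  · exact congrArg (fun g : (((ι → W) × W₀) ≃ₗ[F] ((ι → W) × W₀)) => (g (fun _ => w, 0)).1 i) h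
  · exact congrArg (fun g : (((ι → W) × W₀) ≃ₗ[F] ((ι → W) × W₀)) => (g (0, w)).2) h

end block

section local4

variable {F : Type*} [Field F] [Finite F] {W : Type*} [AddCommGroup W] [Module F W] [FiniteDimensional F W]

/-- the fixed space -/
def fx (y : W ≃ₗ[F] W) : Submodule F W where
  carrier := {w | y w = w}
  add_mem' := by
    intro a b ha hb
    show y (a + b) = a + b
    rw [map_add, ha, hb]
  zero_mem' := map_zero y
  smul_mem' := by
    intro c a ha
    show y (c • a) = c • a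
    rw [map_smul, ha]

theorem mem_fx {y : W ≃ₗ[F] W} {w : W} : w ∈ fx y ↔ y w = w := Iff.rfl

theorem card_fix_modEq {p : ℕ} [hp : Fact p.Prime] {y : W ≃ₗ[F] W} (hy : y ^ p = 1) {U : Submodule F W}
    (hU : ∀ u ∈ U, y u ∈ U) : Nat.card U ≡ Nat.card (U ⊓ fx y : Submodule F W) [MOD p] := by
  classical
  have : Finite W := Module.finite_of_finite F
  have := Fintype.ofFinite W
  let f : Function.End U := fun u => ⟨y u, hU u u.2⟩
  have hf : ∀ (n : ℕ) (u : U), (((f ^ n : Function.End U) u : U) : W) = (y ^ n) u := by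
    intro n
    induction n with
    | zero => intro u; rfl
    | succ n ih =>
      intro u
      rw [pow_succ, pow_succ]
      show (((f ^ n : Function.End U) (f u) : U) : W) = (y ^ n) (y u)
      rw [ih]
  have hf1 : f ^ p ^ 1 = 1 := by
    funext u
    refine Subtype.ext ?_
    rw [pow_one, hf, hy]
    rfl
  have h1 := Equiv.Perm.card_fixedPoints_modEq hf1
  rw [← Nat.card_eq_fintype_card, ← Nat.card_eq_fintype_card] at h1
  refine h1.trans ?_
  rw [Nat.card_congr (α := f.fixedPoints) (β := (U ⊓ fx y : Submodule F W))]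
  exact
    { toFun := fun u => ⟨u.1.1, u.1.2, congrArg Subtype.val u.2⟩
      invFun := fun u => ⟨⟨u.1, u.2.1⟩, Subtype.ext u.2.2⟩
      left_inv := fun u => rfl
      right_inv := fun u => rfl }

theorem card_sub (hF : Nat.card F = 3) (U : Submodule F W) : Nat.card U = 3 ^ Module.finrank F U := by
  rw [Module.natCard_eq_pow_finrank (K := F), hF]

/-- an element of order 3 and an element of order 5 on a 4-dimensional space over `F_3` do not commute -/
theorem not_commute_35 (hF : Nat.card F = 3) (hW : Module.finrank F W = 4) {y t : W ≃ₗ[F] W} (hy : y ^ 5 = 1)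
    (hy1 : y ≠ 1) (ht : t ^ 3 = 1) (ht1 : t ≠ 1) (hc : t * y = y * t) : False := by
  have h5 : Fact (Nat.Prime 5) := ⟨by norm_num⟩
  have h3 : Fact (Nat.Prime 3) := ⟨by norm_num⟩
  have : Finite W := Module.finite_of_finite F
  have full : ∀ g : W ≃ₗ[F] W, Module.finrank F (fx g) = 4 → g = 1 := by
    intro g hg
    have h1 : fx g = ⊤ := Submodule.eq_top_of_finrank_eq (by rw [hg, hW])
    refine LinearEquiv.ext fun w => ?_
    have : w ∈ fx g := h1 ▸ Submodule.mem_top
    exact this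
  have hle : ∀ U : Submodule F W, Module.finrank F U ≤ 4 := fun U => hW ▸ Submodule.finrank_le U
  -- the fixed space of `t`
  have h1 := card_fix_modEq (p := 3) ht (U := (⊤ : Submodule F W)) (fun _ _ => Submodule.mem_top)
  rw [top_inf_eq, card_sub hF, card_sub hF, finrank_top, hW] at h1
  have hf1 : Module.finrank F (fx t) ≠ 0 := by
    intro h0
    rw [h0] at h1
    exact absurd h1 (by decide)
  have hf4 : Module.finrank F (fx t) ≠ 4 := fun h => ht1 (full t h)
  have hft := hle (fx t)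
  -- `y` on it
  have h2 := card_fix_modEq (p := 5) hy (U := fx t) (fun u hu => by
    show t (y u) = y u
    rw [← LinearEquiv.mul_apply, hc, LinearEquiv.mul_apply, mem_fx.1 hu])
  rw [card_sub hF, card_sub hF] at h2
  have h4 : Module.finrank F (fx t ⊓ fx y : Submodule F W) ≤ Module.finrank F (fx t) :=
    Submodule.finrank_mono inf_le_left
  have h5' : Module.finrank F (fx t ⊓ fx y : Submodule F W) ≤ Module.finrank F (fx y) :=
    Submodule.finrank_mono inf_le_right
  have h6 := card_fix_modEq (p := 5) hy (U := (⊤ : Submodule F W)) (fun _ _ => Submodule.mem_top)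
  rw [top_inf_eq, card_sub hF, card_sub hF, finrank_top, hW] at h6
  have hy4 : Module.finrank F (fx y) ≠ 4 := fun h => hy1 (full y h)
  have hfy := hle (fx y)
  generalize Module.finrank F (fx t) = a at *
  generalize Module.finrank F (fx y) = b at *
  generalize Module.finrank F (fx t ⊓ fx y : Submodule F W) = c at *
  have hb : b = 0 := by
    interval_cases b
    · rfl
    · exact absurd h6 (by decide)
    · exact absurd h6 (by decide)
    · exact absurd h6 (by decide)
    · exact absurd rfl hy4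
  subst hb
  have hc0 : c = 0 := by omega
  subst hc0
  interval_cases a
  · exact absurd rfl hf1
  · exact absurd h2 (by decide)
  · exact absurd h2 (by decide)
  · exact absurd h2 (by decide)
  · exact absurd rfl hf4

/-- an isometry of order 3 -/
theorem exists_order_three (hF : Nat.card F = 3) {Q : QuadraticForm F W} (hQ : Nondeg Q) (hW : 3 ≤ Module.finrank F W) :
    ∃ t ∈ O Q, t ^ 3 = 1 ∧ t ≠ 1 := by
  have h3 : (3 : F) = 0 := by
    have h := pow_card_eq_one' (G := Multiplicative F) (x := Multiplicative.ofAdd 1)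
    have h2 : (Nat.card F) • (1 : F) = 0 := card_nsmul_eq_zero'
    rw [hF] at h2
    simpa using h2
  obtain ⟨u, hu0, hu, -⟩ := exists_sing_perp (Q := Q) (n := 0) ![] (by omega)
  -- `w ⊥ u`, not a multiple of `u`
  obtain ⟨w, hw, hwu⟩ : ∃ w, polar Q u w = 0 ∧ ∀ c : F, w ≠ c • u := by
    by_contra hcon
    push Not at hcon
    have hle : LinearMap.ker (polarBilin Q u) ≤ Submodule.span F {u} := by
      intro w hw
      obtain ⟨c, hc⟩ := hcon w (by simpa using hw)
      rw [hc]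
      exact Submodule.smul_mem _ _ (Submodule.mem_span_singleton_self u)
    have h1 := Submodule.finrank_mono hle
    have h2 := finrank_span_singleton (K := F) hu0
    have h4 := LinearMap.finrank_range_add_finrank_ker (polarBilin Q u)
    have h5 : Module.finrank F (LinearMap.range (polarBilin Q u)) ≤ 1 := by
      refine (Submodule.finrank_le _).trans ?_
      rw [Module.finrank_self]
    omega
  have hz : ∀ c : F, polar Q u (c • w) = 0 := fun c => by rw [polar_smul_right, hw, smul_zero]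
  refine ⟨siegel Q u w hu hw, siegel_mem_O hu hw, ?_, ?_⟩
  · rw [pow_succ, pow_two, siegel_mul hu hw hw (by rw [polar_add_right, hw, add_zero]),
      siegel_mul hu (by rw [polar_add_right, hw, add_zero]) hw (by rw [polar_add_right, polar_add_right, hw]; simp)]
    have h0 : w + w + w = 0 := by
      have : w + w + w = (3 : F) • w := by
        rw [show (3 : F) = 1 + 1 + 1 by norm_num, add_smul, add_smul, one_smul]
      rw [this, h3, zero_smul]
    refine LinearEquiv.ext fun v => ?_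
    rw [siegel_apply]
    simp [h0]
  · intro h1
    obtain ⟨v, hv⟩ := hQ.exists_polar_eq hu0 (1 : F)
    have h2 : siegel Q u w hu hw v = v := by rw [h1]; rfl
    rw [siegel_apply, hv, one_smul, mul_one] at h2
    refine hwu (polar Q w v + Q w) ?_
    rw [add_smul]
    have h4 : w - polar Q w v • u - Q w • u = 0 := by
      have : v + w - polar Q w v • u - Q w • u - v = 0 := by rw [h2, sub_self]
      rw [← this]
      abel
    rw [sub_sub, sub_eq_zero] at h4
    exact h4

end local4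

section order

/-- an element `t` with `t ^ 3 = 1` normalising `⟨y⟩`, `y ^ 5 = 1`, centralises `y` -/
theorem comm_of_norm {A : Type*} [Group A] {y t : A} (hy : y ^ 5 = 1) (hy1 : y ≠ 1) (ht : t ^ 3 = 1)
    (hn : t * y * t⁻¹ ∈ zpowers y) : t * y = y * t := by
  obtain ⟨j, hj⟩ := hn
  have hj' : t * y * t⁻¹ = y ^ j := hj.symm
  have h1 : ∀ m : ℤ, t * y ^ m * t⁻¹ = y ^ (j * m) := by
    intro m
    rw [← conj_zpow, hj', zpow_mul]
  have h2 : y = y ^ (j * (j * j)) := by
    have h3 : t * (t * (t * y * t⁻¹) * t⁻¹) * t⁻¹ = t ^ 3 * y * (t ^ 3)⁻¹ := by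
      simp only [pow_succ, pow_zero, one_mul, mul_inv_rev, mul_assoc]
    rw [ht, one_mul, inv_one, mul_one, hj', h1, h1] at h3
    exact h3.symm
  have h5p : Fact (Nat.Prime 5) := ⟨by norm_num⟩
  have hord : orderOf y = 5 := orderOf_eq_prime hy hy1
  have h4 : (5 : ℤ) ∣ j * (j * j) - 1 := by
    have : ((orderOf y : ℕ) : ℤ) ∣ j * (j * j) - 1 := by
      rw [orderOf_dvd_iff_zpow_eq_one, zpow_sub, zpow_one, ← h2, mul_inv_cancel]
    rwa [hord] at this
  have h5 : (5 : ℤ) ∣ j - 1 := by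
    have h6 : j % 5 = 0 ∨ j % 5 = 1 ∨ j % 5 = 2 ∨ j % 5 = 3 ∨ j % 5 = 4 := by omega
    have h7 : (j * (j * j) - 1) % 5 = ((j % 5) * ((j % 5) * (j % 5)) - 1) % 5 := by
      rw [Int.sub_emod, Int.mul_emod, Int.mul_emod j j, ← Int.sub_emod]
      simp [Int.mul_emod, Int.sub_emod]
    have h8 : (j * (j * j) - 1) % 5 = 0 := Int.emod_eq_zero_of_dvd h4
    rw [h7] at h8
    rcases h6 with h | h | h | h | h
    · rw [h] at h8; norm_num at h8
    · omega
    · rw [h] at h8; norm_num at h8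
    · rw [h] at h8; norm_num at h8
    · rw [h] at h8; norm_num at h8
  have h6 : y ^ (j - 1) = 1 := by
    rw [← orderOf_dvd_iff_zpow_eq_one, hord]
    exact_mod_cast h5
  have h7 : y ^ j = y := by
    have : y ^ j = y ^ (j - 1) * y := by rw [← zpow_add_one]; congr 1; ring
    rw [this, h6, one_mul]
  rw [h7, mul_inv_eq_iff_eq_mul] at hj'
  exact hj'

end order

section main

variable {F : Type} [Field F] [Finite F] {W : Type} [AddCommGroup W] [Module F W] [FiniteDimensional F W]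

/-- `3` divides the number of Sylow 5-subgroups of `O(W)`. -/
theorem three_dvd_sylow (hF : Nat.card F = 3) (hW : Module.finrank F W = 4) {Q : QuadraticForm F W} (hQ : Nondeg Q)
    [Finite (O Q)] (h5 : 5 ∣ Nat.card (O Q)) (h25 : ¬ 5 ^ 2 ∣ Nat.card (O Q)) :
    haveI : Fact (Nat.Prime 5) := ⟨by norm_num⟩
    3 ∣ Nat.card (Sylow 5 (O Q)) := by
  have h5p : Fact (Nat.Prime 5) := ⟨by norm_num⟩
  have h3p : Fact (Nat.Prime 3) := ⟨by norm_num⟩
  obtain ⟨P⟩ : Nonempty (Sylow 5 (O Q)) := inferInstance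
  have hPc : Nat.card (P : Subgroup (O Q)) = 5 := by
    rw [P.card_eq_multiplicity]
    have h1 : 1 ≤ (Nat.card (O Q)).factorization 5 := (h5p.out.dvd_iff_one_le_factorization Nat.card_pos.ne').1 h5
    have h2 : ¬ 2 ≤ (Nat.card (O Q)).factorization 5 := fun h =>
      h25 ((h5p.out.pow_dvd_iff_le_factorization Nat.card_pos.ne').2 h)
    have h3 : (Nat.card (O Q)).factorization 5 = 1 := by omega
    rw [h3, pow_one]
  rw [P.card_eq_index_normalizer]
  by_contra hcon
  obtain ⟨t0, ht0, ht3, ht1⟩ := exists_order_three hF hQ (by omega : 3 ≤ Module.finrank F W)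
  have hd : 3 ∣ Nat.card (O Q) := by
    have h1 : orderOf (⟨t0, ht0⟩ : O Q) = 3 := by
      rw [Subgroup.orderOf_mk]
      exact orderOf_eq_prime ht3 ht1
    rw [← h1]
    exact orderOf_dvd_natCard _
  rw [← Subgroup.card_mul_index (normalizer ((P : Subgroup (O Q)) : Set (O Q)))] at hd
  have hd' : 3 ∣ Nat.card (normalizer ((P : Subgroup (O Q)) : Set (O Q))) := by
    rcases (h3p.out.dvd_mul).1 hd with h | h
    · exact h
    · exact absurd h hcon
  obtain ⟨t, ht⟩ := exists_prime_orderOf_dvd_card' (G := normalizer ((P : Subgroup (O Q)) : Set (O Q))) 3 hd'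
  -- a generator of `P`
  obtain ⟨y, hy⟩ : ∃ y : (P : Subgroup (O Q)), y ≠ 1 := by
    have : Nontrivial (P : Subgroup (O Q)) := by
      rw [← Finite.one_lt_card_iff_nontrivial, hPc]
      norm_num
    exact exists_ne 1
  have hy1 : (y : O Q) ≠ 1 := fun h => hy (Subtype.ext h)
  have hyo : (y : O Q) ^ 5 = 1 := by
    have : y ^ Nat.card (P : Subgroup (O Q)) = 1 := pow_card_eq_one'
    rw [hPc] at this
    exact congrArg Subtype.val this
  have hzp : zpowers (y : O Q) = (P : Subgroup (O Q)) := by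
    refine Subgroup.eq_of_le_of_card_ge (by rw [zpowers_le]; exact y.2) ?_
    rw [hPc, Nat.card_zpowers, orderOf_eq_prime hyo hy1]
  have hn : (t : O Q) * y * (t : O Q)⁻¹ ∈ zpowers (y : O Q) := by
    rw [hzp]
    exact (mem_normalizer_iff.1 t.2 _).1 y.2
  have ht3' : (t : O Q) ^ 3 = 1 := by
    have : t ^ 3 = 1 := by rw [← ht]; exact pow_orderOf_eq_one t
    exact congrArg Subtype.val this
  have ht1' : (t : O Q) ≠ 1 := by
    intro h
    have h2 : t = 1 := Subtype.ext h
    rw [h2, orderOf_one] at ht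
    norm_num at ht
  have hcomm := comm_of_norm hyo hy1 ht3' hn
  exact not_commute_35 hF hW (y := ((y : O Q) : W ≃ₗ[F] W)) (t := ((t : O Q) : W ≃ₗ[F] W))
    (congrArg Subtype.val hyo) (fun h => hy1 (Subtype.ext h)) (congrArg Subtype.val ht3') (fun h => ht1' (Subtype.ext h))
    (congrArg Subtype.val hcomm)

/-- **The criterion.** -/
theorem eq_one_of_sum (hF : Nat.card F = 3) (hW : Module.finrank F W = 4) {Q : QuadraticForm F W} (hQ : Nondeg Q)
    {z : W ≃ₗ[F] W} (hz : z ∈ O Q) (hzo : 5 ∣ orderOf z) {W₀ : Type} [AddCommGroup W₀] [Module F W₀]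
    [FiniteDimensional F W₀] {Q₀ : QuadraticForm F W₀} {ι : Type} [Fintype ι] [DecidableEq ι]
    {κ : Type} [Fintype κ] [DecidableEq κ] {q : (κ → F) → F} (hsim : Sim (sumQuad (ι := ι) Q Q₀) q)
    (hord : (Nat.card (Cfsg.isometryGroup F q)).factorization 5 ≤
      Fintype.card ι + (Fintype.card ι).factorial.factorization 5) {H : Subgroup (Cfsg.isometryGroup F q)}
    (h : PSub 5 H) (h3 : ¬ 3 ∣ Nat.card H) {x : Cfsg.isometryGroup F q} (hx : x ∈ H) (hxp : ∃ k : ℕ, x ^ 5 ^ k = 1) :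
    x = 1 := by
  have h5p : Fact (Nat.Prime 5) := ⟨by norm_num⟩
  have h3p : Fact (Nat.Prime 3) := ⟨by norm_num⟩
  have hWf : Finite W := Module.finite_of_finite F
  have hW₀f : Finite W₀ := Module.finite_of_finite F
  have hfW : Finite (W ≃ₗ[F] W) := Finite.of_injective (fun g => (g : W → W)) DFunLike.coe_injective
  have hfW₀ : Finite (W₀ ≃ₗ[F] W₀) := Finite.of_injective (fun g => (g : W₀ → W₀)) DFunLike.coe_injective
  have hnt : Nontrivial W := Module.nontrivial_of_finrank_pos (R := F) (by omega)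
  obtain ⟨c, hc, j, hj⟩ := hsim
  have hS : SimF j (fun u _ => q u) (sumForm (ι := ι) (fun u _ : W => Q u) (fun u _ : W₀ => Q₀ u)) c :=
    ⟨hc, fun x y => by rw [sumForm_quad]; exact hj x⟩
  let E : Cfsg.isometryGroup F q ≃* Iso (sumForm (ι := ι) (fun u _ : W => Q u) (fun u _ : W₀ => Q₀ u)) := isoEquiv hS
  let δ' : (ι → O Q) × O Q₀ →* Iso (sumForm (ι := ι) (fun u _ : W => Q u) (fun u _ : W₀ => Q₀ u)) :=
    { toFun := fun x => ⟨dd (fun i => (x.1 i : W ≃ₗ[F] W), (x.2 : W₀ ≃ₗ[F] W₀)), dd_mem (fun i => (x.1 i).2) x.2.2⟩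
      map_one' := rfl
      map_mul' := fun _ _ => rfl }
  let ρ' : Perm ι →* Iso (sumForm (ι := ι) (fun u _ : W => Q u) (fun u _ : W₀ => Q₀ u)) :=
    { toFun := fun π => ⟨pm π, pm_mem π⟩
      map_one' := rfl
      map_mul' := fun _ _ => rfl }
  have h5 : 5 ∣ Nat.card (O Q) := by
    have h1 : orderOf (⟨z, hz⟩ : O Q) = orderOf z := Subgroup.orderOf_mk _ _
    refine hzo.trans ?_
    rw [← h1]
    exact orderOf_dvd_natCard _
  refine eq_one_of_wreath (r := 3) (A := O Q) (B := O Q₀) (ι := ι) (E.symm.toMonoidHom.comp δ')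
    (E.symm.toMonoidHom.comp ρ') ?_ ?_ h5 (three_dvd_sylow hF hW hQ h5) hord h h3 hx hxp
  · intro π x
    show E.symm (ρ' π) * E.symm (δ' x) * (E.symm (ρ' π))⁻¹ = E.symm (δ' _)
    rw [← map_mul, ← map_inv, ← map_mul]
    congr 1
    exact Subtype.ext (pm_conj_dd π (fun i => (x.1 i : W ≃ₗ[F] W), (x.2 : W₀ ≃ₗ[F] W₀)))
  · intro x π hxπ
    have h1 : E.symm (δ' x * ρ' π) = 1 := by rw [map_mul]; exact hxπ
    have h2 : δ' x * ρ' π = 1 := E.symm.injective (h1.trans (map_one _).symm)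
    obtain ⟨h4, h5⟩ := eq_one_of_dd_mul_pm (x := (fun i => (x.1 i : W ≃ₗ[F] W), (x.2 : W₀ ≃ₗ[F] W₀))) (π := π)
      (congrArg Subtype.val h2)
    refine ⟨Prod.ext (funext fun i => Subtype.ext ?_) (Subtype.ext ?_), h5⟩
    · exact congrArg (fun s : (ι → (W ≃ₗ[F] W)) × (W₀ ≃ₗ[F] W₀) => s.1 i) h4
    · exact congrArg Prod.snd h4

end main

end Cfsg.Agent.H388.KW
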