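import Cfsg.Agent.H838.KW.Cent

/-!
# The block principle for a wreath product (helper388, task 3492, S4243)

* `noP_of_sylow` : `|A|` divisible by `p` exactly once and `r ∣ |Syl_p(A)|` give `NoP p r A`;
* `mem_of_blocks_hom` : `mem_of_blocks` for an injective homomorphism `e : S →* G`;
* `eq_one_of_wreath` : `G ≥ (A^ι × B) ⋊ Sym ι` with `|G|_p ≤ p ^ |ι| (|ι|!)_p`: the `p`-elements of an `r'`-subgroup with
  `PSub p` are trivial.
-/

set_option autoImplicit false
set_option linter.unusedSectionVars false

open Subgroup Equiv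

namespace Cfsg.Agent.H388.KW

open Cfsg.Agent.H146.KW Cfsg.Agent.H838.KW

universe u v

section Syl

variable {p : ℕ} [hp : Fact p.Prime]

theorem card_sylow_le {A B : Type*} [Group A] [Group B] [Finite A] [Finite B] (e : A ≃* B) :
    Nat.card (Sylow p B) ≤ Nat.card (Sylow p A) :=
  Nat.card_le_card_of_surjective _ (Sylow.mapSurjective_surjective (f := e.toMonoidHom) e.surjective p)

theorem card_sylow_congr {A B : Type*} [Group A] [Group B] [Finite A] [Finite B] (e : A ≃* B) :
    Nat.card (Sylow p A) = Nat.card (Sylow p B) :=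
  le_antisymm (card_sylow_le e.symm) (card_sylow_le e)

/-- If all Sylow subgroups of `A` are contained in `X`, their number divides `|X|`. -/
theorem card_sylow_dvd_of_le {A : Type*} [Group A] [Finite A] {X : Subgroup A}
    (h : ∀ P : Sylow p A, (P : Subgroup A) ≤ X) : Nat.card (Sylow p A) ∣ Nat.card X := by
  have e1 : Nat.card (Sylow p A) = Nat.card (Sylow p X) := by
    refine Nat.card_congr (Equiv.ofBijective (fun P => P.subtype (h P)) ⟨?_, ?_⟩)
    · intro P Q hPQ
      exact Sylow.subtype_injective hPQ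
    · intro Q
      have h1 : IsPGroup p ((Q : Subgroup X).map X.subtype) := Q.isPGroup'.map _
      obtain ⟨P, hP⟩ := h1.exists_le_sylow
      refine ⟨P, Sylow.ext ?_⟩
      refine Q.is_maximal' (P.subtype (h P)).isPGroup' ?_
      intro x hx
      rw [Sylow.coe_subtype, mem_subgroupOf]
      exact hP ⟨x, hx, rfl⟩
  obtain ⟨Q⟩ : Nonempty (Sylow p X) := inferInstance
  rw [e1]
  exact (Sylow.card_dvd_index Q).trans (index_dvd_card _)

theorem noP_of_sylow {r : ℕ} {A : Type u} [Group A] [Finite A] (hA : ¬ p ^ 2 ∣ Nat.card A)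
    (hb : r ∣ Nat.card (Sylow p A)) : NoP p r A := by
  intro X hX hr hd
  apply hr
  refine hb.trans (card_sylow_dvd_of_le fun P => ?_)
  intro x hx
  by_cases hx1 : x = 1
  · rw [hx1]; exact one_mem _
  · refine hX.mem_of_isCyclic hd (isCyclic_of_not_sq_dvd hA) (g := x) ?_
    have h1 : Nat.card (P : Subgroup A) ∣ p := by
      rw [P.card_eq_multiplicity]
      have h3 : (Nat.card A).factorization p ≤ 1 := by
        by_contra hcon
        push Not at hcon
        exact hA ((hp.out.pow_dvd_iff_le_factorization Nat.card_pos.ne').mpr hcon)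
      calc p ^ (Nat.card A).factorization p ∣ p ^ 1 := pow_dvd_pow p h3
        _ = p := pow_one p
    have h2 : orderOf x ∣ p := by
      have := orderOf_dvd_natCard (⟨x, hx⟩ : (P : Subgroup A))
      rw [Subgroup.orderOf_mk] at this
      exact this.trans h1
    rcases (Nat.dvd_prime hp.out).1 h2 with h | h
    · exact absurd (orderOf_eq_one_iff.1 h) hx1
    · exact h

/-- A central `p`-element of `A` is trivial if `p` divides `|A|` once and `r` divides the number of Sylow subgroups. -/
theorem central_eq_one {r : ℕ} (hr : r ≠ 1) {A : Type*} [Group A] [Finite A] (hA : ¬ p ^ 2 ∣ Nat.card A)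
    (hb : r ∣ Nat.card (Sylow p A)) {z : A} (hz : ∃ k : ℕ, z ^ p ^ k = 1) (hc : ∀ a : A, z * a = a * z) : z = 1 := by
  by_contra hne
  obtain ⟨k, hk⟩ := hz
  have hzp : IsPGroup p (zpowers z) := by
    rintro ⟨_, n, rfl⟩
    refine ⟨k, Subtype.ext ?_⟩
    show (z ^ n) ^ p ^ k = 1
    rw [← zpow_natCast, zpow_comm, zpow_natCast, hk, one_zpow]
  -- each Sylow subgroup is `⟨z⟩`
  have h3 : (Nat.card A).factorization p ≤ 1 := by
    by_contra hcon
    push Not at hcon
    exact hA ((hp.out.pow_dvd_iff_le_factorization Nat.card_pos.ne').mpr hcon)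
  have hall : ∀ P : Sylow p A, (P : Subgroup A) = zpowers z := by
    intro P
    have hcc : zpowers z ≤ (P : Subgroup A) := by
      obtain ⟨P', hP'⟩ := hzp.exists_le_sylow
      obtain ⟨g, hg⟩ := MulAction.exists_smul_eq A P' P
      have h4 : z ∈ g • P' := by
        rw [mem_smul_sylow]
        refine ⟨z, hP' (mem_zpowers z), ?_⟩
        rw [← hc, mul_assoc, mul_inv_cancel, mul_one]
      rw [hg] at h4
      rw [zpowers_le]
      exact h4
    refine (Subgroup.eq_of_le_of_card_ge hcc ?_).symm
    have h5 : Nat.card (P : Subgroup A) ≤ p := by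
      rw [P.card_eq_multiplicity]
      calc p ^ (Nat.card A).factorization p ≤ p ^ 1 := Nat.pow_le_pow_right hp.out.pos h3
        _ = p := pow_one p
    have h6 : p ∣ Nat.card (zpowers z) := by
      obtain ⟨n, hn⟩ := IsPGroup.iff_card.1 hzp
      rw [hn]
      refine dvd_pow_self p ?_
      rintro rfl
      rw [pow_zero, Nat.card_zpowers, orderOf_eq_one_iff] at hn
      exact hne hn
    exact h5.trans (Nat.le_of_dvd Nat.card_pos h6)
  have h1 : Nat.card (Sylow p A) = 1 := by
    rw [Nat.card_eq_one_iff_unique]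
    exact ⟨⟨fun P Q => Sylow.ext ((hall P).trans (hall Q).symm)⟩, inferInstance⟩
  rw [h1, Nat.dvd_one] at hb
  exact hr hb

end Syl

section Hom

variable {G : Type u} [Group G] [Finite G] {p : ℕ} [hp : Fact p.Prime] {r : ℕ} [hr : Fact r.Prime]

/-- `mem_of_blocks` for an injective homomorphism. -/
theorem eq_one_of_blocks_hom {H : Subgroup G} (h : PSub p H) (hrH : ¬ r ∣ Nat.card H) {S : Type u} [Group S] [Finite S]
    (e : S →* G) (he : Function.Injective e) (hL : ¬ p ∣ e.range.index) {ι : Type v} (act : S →* Perm ι)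
    (K : ι → Subgroup S) (hK : ∀ (g : S) (i : ι), ∀ x ∈ K i, g * x * g⁻¹ ∈ K (act g i))
    (comm : ∀ i j : ι, i ≠ j → ∀ x ∈ K i, ∀ y ∈ K j, x * y = y * x)
    (htriv : ∀ i : ι, ∀ x ∈ K i, act x = 1)
    (ha : ∀ H' : Subgroup S, PSub p H' → ¬ r ∣ Nat.card H' → ∀ x ∈ H', act x = 1 →
      (∃ k : ℕ, x ^ p ^ k = 1) → ∀ i : ι, ∀ y ∈ K i, x * y = y * x)
    (hb : ∀ i : ι, r ∣ Nat.card (Sylow p (K i)))
    (hc : ∀ s : S, (∃ k : ℕ, s ^ p ^ k = 1) → (∀ i : ι, ∀ y ∈ K i, s * y = y * s) → s = 1)
    {x : G} (hx : x ∈ H) (hxp : ∃ k : ℕ, x ^ p ^ k = 1) : x = 1 := by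
  classical
  let E : S ≃* e.range := MonoidHom.ofInjective he
  let _ : MulAction e.range ι := MulAction.compHom ι (act.comp E.symm.toMonoidHom)
  have hact : ∀ (s : S) (i : ι), (E s) • i = act s i := by
    intro s i
    show act (E.symm (E s)) i = act s i
    rw [E.symm_apply_apply]
  have hpw : ∀ {s : S}, (∃ k : ℕ, (E s) ^ p ^ k = 1) → ∃ k : ℕ, s ^ p ^ k = 1 := by
    rintro s ⟨k, hk⟩
    exact ⟨k, E.injective (by rw [map_pow, hk, map_one])⟩
  have hmem : x ∈ (⊥ : Subgroup G) := by
    refine mem_of_blocks (r := r) h hrH (L := e.range) hL (ι := ι) (fun i => (K i).map E.toMonoidHom) ?_ ?_ ?_ ?_ ?_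
      (A := ⊥) IsPGroup.of_bot ?_ (Z := ⊥) ?_ hx hxp
    · rintro g i _ ⟨y, hy, rfl⟩
      obtain ⟨s, rfl⟩ := E.surjective g
      rw [hact]
      exact ⟨s * y * s⁻¹, hK s i y hy, by simp⟩
    · rintro i j hij _ ⟨y, hy, rfl⟩ _ ⟨z, hz, rfl⟩
      show E y * E z = E z * E y
      rw [← map_mul, comm i j hij y hy z hz, map_mul]
    · rintro i j _ ⟨y, hy, rfl⟩
      show (E y) • j = j
      rw [hact, htriv i y hy]
      rfl
    · rintro H' hH' hr' g hg hfix hgp i _ ⟨y, hy, rfl⟩
      obtain ⟨s, rfl⟩ := E.surjective g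
      show E s * E y = E y * E s
      rw [← map_mul, ← map_mul]
      congr 1
      refine ha (H'.comap E.toMonoidHom) (hH'.comap (f := E.toMonoidHom) E.surjective) ?_ s hg ?_ (hpw hgp) i y hy
      · have h2 : Nat.card (H'.comap E.toMonoidHom) = Nat.card H' :=
          Nat.card_congr (E.toEquiv.subtypeEquiv fun a => Iff.rfl)
        rwa [h2]
      · refine Equiv.ext fun j => ?_
        rw [← hact, hfix j]
        rfl
    · intro i
      rw [← card_sylow_congr ((K i).equivMapOfInjective E.toMonoidHom E.injective)]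
      exact hb i
    · intro s _ _ a ha'
      rw [mem_bot] at ha' ⊢
      rw [ha', mul_one, mul_inv_cancel]
    · intro g hgp hcomm _
      obtain ⟨s, rfl⟩ := E.surjective g
      have h1 : s = 1 := by
        refine hc s (hpw hgp) fun i y hy => E.injective ?_
        rw [map_mul, map_mul]
        exact hcomm i (E y) ⟨y, hy, rfl⟩
      rw [mem_bot, h1, map_one]
      rfl
  exact hmem

end Hom

section Wreath

variable {A B : Type u} [Group A] [Group B] {ι : Type} [Fintype ι] [DecidableEq ι]

/-- The action of `Sym ι` on `A^ι × B`. -/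
def shiftAut (A B : Type u) [Group A] [Group B] (ι : Type) : Perm ι →* MulAut ((ι → A) × B) where
  toFun π :=
    { toFun := fun x => (fun i => x.1 (π.symm i), x.2)
      invFun := fun x => (fun i => x.1 (π i), x.2)
      left_inv := fun x => by
        refine Prod.ext (funext fun i => ?_) rfl
        show x.1 (π.symm (π i)) = x.1 i
        rw [Equiv.symm_apply_apply]
      right_inv := fun x => by
        refine Prod.ext (funext fun i => ?_) rfl
        show x.1 (π (π.symm i)) = x.1 i
        rw [Equiv.apply_symm_apply]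
      map_mul' := fun x y => rfl }
  map_one' := rfl
  map_mul' _ _ := rfl

theorem shiftAut_apply (π : Perm ι) (x : (ι → A) × B) : shiftAut A B ι π x = (fun i => x.1 (π.symm i), x.2) := rfl

/-- The wreath product. -/
abbrev WS (A B : Type u) [Group A] [Group B] (ι : Type) := SemidirectProduct ((ι → A) × B) (Perm ι) (shiftAut A B ι)

/-- the block `i` -/
def blk (i : ι) : A →* WS A B ι :=
  SemidirectProduct.inl.comp ((MonoidHom.inl (ι → A) B).comp (MonoidHom.mulSingle (fun _ : ι => A) i))

theorem blk_right (i : ι) (a : A) : (blk (B := B) i a).right = 1 := rfl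

theorem blk_left (i : ι) (a : A) : (blk (B := B) i a).left = (Pi.mulSingle i a, 1) := rfl

theorem blk_injective (i : ι) : Function.Injective (blk (A := A) (B := B) i) := by
  intro a b h
  have h1 := congrArg (fun s : WS A B ι => s.left.1 i) h
  simpa [blk_left] using h1

theorem conj_blk (s : WS A B ι) (i : ι) (a : A) :
    s * blk i a * s⁻¹ = blk (s.right i) (s.left.1 (s.right i) * a * (s.left.1 (s.right i))⁻¹) := by
  rw [mul_inv_eq_iff_eq_mul]
  refine SemidirectProduct.ext ?_ ?_
  · rw [SemidirectProduct.mul_left, SemidirectProduct.mul_left, blk_left, blk_left, blk_right, map_one, shiftAut_apply]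
    refine Prod.ext (funext fun j => ?_) ?_
    · show s.left.1 j * (Pi.mulSingle i a : ι → A) (s.right.symm j) =
        (Pi.mulSingle (s.right i) (s.left.1 (s.right i) * a * (s.left.1 (s.right i))⁻¹) : ι → A) j * s.left.1 j
      by_cases hj : j = s.right i
      · subst hj
        rw [Equiv.symm_apply_apply, Pi.mulSingle_eq_same, Pi.mulSingle_eq_same, inv_mul_cancel_right]
      · rw [Pi.mulSingle_eq_of_ne (i := i), Pi.mulSingle_eq_of_ne hj, mul_one, one_mul]
        intro h
        apply hj
        rw [← h, Equiv.apply_symm_apply]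
    · show s.left.2 * 1 = 1 * s.left.2
      rw [mul_one, one_mul]
  · rw [SemidirectProduct.mul_right, SemidirectProduct.mul_right, blk_right, blk_right, mul_one, one_mul]

/-- component of an element of the base group -/
def cpt (i : ι) : (SemidirectProduct.rightHom (φ := shiftAut A B ι)).ker →* A where
  toFun s := s.1.left.1 i
  map_one' := rfl
  map_mul' s t := by
    have h : s.1.right = 1 := s.2
    show (s.1 * t.1).left.1 i = s.1.left.1 i * t.1.left.1 i
    rw [SemidirectProduct.mul_left, h, map_one]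
    rfl

theorem cpt_surjective (i : ι) : Function.Surjective (cpt (A := A) (B := B) i) := by
  intro a
  refine ⟨⟨blk (B := B) i a, (blk_right (B := B) i a : _)⟩, ?_⟩
  show (blk (B := B) i a).left.1 i = a
  rw [blk_left]
  exact Pi.mulSingle_eq_same (M := fun _ : ι => A) i a

theorem blk_comm_of_cpt {s : WS A B ι} (hs : s.right = 1) {i : ι}
    (hi : ∀ a : A, s.left.1 i * a = a * s.left.1 i) (a : A) :
    s * blk i a = blk i a * s := by
  have h := conj_blk s i a
  rw [hs] at h
  simp only [Perm.coe_one, id_eq] at h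
  rw [hi a, mul_inv_cancel_right, mul_inv_eq_iff_eq_mul] at h
  exact h

/-- **The wreath product criterion.** -/
theorem eq_one_of_wreath {G : Type u} [Group G] [Finite G] [Finite A] [Finite B] {p : ℕ} [hp : Fact p.Prime] {r : ℕ}
    [hr : Fact r.Prime] (δ : (ι → A) × B →* G) (ρ : Perm ι →* G)
    (hconj : ∀ (π : Perm ι) (x : (ι → A) × B), ρ π * δ x * (ρ π)⁻¹ = δ (fun i => x.1 (π.symm i), x.2))
    (hinj : ∀ (x : (ι → A) × B) (π : Perm ι), δ x * ρ π = 1 → x = 1 ∧ π = 1)
    (hA : p ∣ Nat.card A) (hb' : ¬ p ^ 2 ∣ Nat.card A → r ∣ Nat.card (Sylow p A))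
    (hord : (Nat.card G).factorization p ≤ Fintype.card ι + (Fintype.card ι).factorial.factorization p)
    {H : Subgroup G} (h : PSub p H) (hrH : ¬ r ∣ Nat.card H) {x : G} (hx : x ∈ H) (hxp : ∃ k : ℕ, x ^ p ^ k = 1) :
    x = 1 := by
  classical
  let e : WS A B ι →* G := SemidirectProduct.lift δ ρ (fun π => by
    refine MonoidHom.ext fun x => ?_
    rw [MonoidHom.comp_apply, MonoidHom.comp_apply]
    show δ (shiftAut A B ι π x) = ρ π * δ x * (ρ π)⁻¹
    rw [hconj, shiftAut_apply])
  have he : Function.Injective e := by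
    rw [injective_iff_map_eq_one]
    intro s hs
    have h1 : δ s.left * ρ s.right = 1 := hs
    obtain ⟨h2, h3⟩ := hinj _ _ h1
    exact SemidirectProduct.ext h2 h3
  have hfin : Finite (WS A B ι) := Finite.of_injective e he
  -- orders
  have hcard : Nat.card (WS A B ι) = Nat.card A ^ Fintype.card ι * Nat.card B * (Fintype.card ι).factorial := by
    rw [SemidirectProduct.card, Nat.card_prod, Nat.card_fun, Nat.card_eq_fintype_card (α := ι), Nat.card_perm,
      Nat.card_eq_fintype_card (α := ι)]
  have hidx : Nat.card (WS A B ι) * e.range.index = Nat.card G := by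
    rw [← Subgroup.card_mul_index e.range, Nat.card_congr (MonoidHom.ofInjective he).toEquiv]
  have hv : Fintype.card ι * (Nat.card A).factorization p + (Nat.card B).factorization p +
      (Fintype.card ι).factorial.factorization p + (e.range.index).factorization p =
      (Nat.card G).factorization p := by
    rw [← hidx, hcard, Nat.factorization_mul (mul_ne_zero (mul_ne_zero (pow_ne_zero _ Nat.card_pos.ne') Nat.card_pos.ne')
      (Nat.factorial_ne_zero _)) Subgroup.index_ne_zero_of_finite, Nat.factorization_mul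
      (mul_ne_zero (pow_ne_zero _ Nat.card_pos.ne') Nat.card_pos.ne') (Nat.factorial_ne_zero _),
      Nat.factorization_mul (pow_ne_zero _ Nat.card_pos.ne') Nat.card_pos.ne', Nat.factorization_pow]
    rfl
  have hA1 : 1 ≤ (Nat.card A).factorization p :=
    (hp.out.dvd_iff_one_le_factorization Nat.card_pos.ne').1 hA
  have hkA : Fintype.card ι ≤ Fintype.card ι * (Nat.card A).factorization p := Nat.le_mul_of_pos_right _ hA1
  have hB : ¬ p ∣ Nat.card B := by
    intro hd
    have := (hp.out.dvd_iff_one_le_factorization Nat.card_pos.ne').1 hd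
    omega
  have hI : ¬ p ∣ e.range.index := by
    intro hd
    have := (hp.out.dvd_iff_one_le_factorization Subgroup.index_ne_zero_of_finite).1 hd
    omega
  have hA2 : ∀ i : ι, ¬ p ^ 2 ∣ Nat.card A := by
    intro i hd
    have h2 := (hp.out.pow_dvd_iff_le_factorization Nat.card_pos.ne').1 hd
    have hk : 1 ≤ Fintype.card ι := Fintype.card_pos_iff.2 ⟨i⟩
    have h3 : Fintype.card ι * 2 ≤ Fintype.card ι * (Nat.card A).factorization p := Nat.mul_le_mul_left _ h2
    omega
  have hb : ι → r ∣ Nat.card (Sylow p A) := fun i => hb' (hA2 i)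
  refine eq_one_of_blocks_hom (r := r) h hrH e he hI (SemidirectProduct.rightHom (φ := shiftAut A B ι))
    (fun i => (blk (A := A) (B := B) i).range) ?_ ?_ ?_ ?_ ?_ ?_ hx hxp
  · rintro s i _ ⟨a, rfl⟩
    rw [conj_blk]
    exact ⟨_, rfl⟩
  · rintro i j hij _ ⟨a, rfl⟩ _ ⟨b, rfl⟩
    have h1 := conj_blk (blk (B := B) i a) j b
    rw [blk_right, blk_left] at h1
    simp only [Perm.coe_one, id_eq] at h1
    rw [Pi.mulSingle_eq_of_ne hij.symm, one_mul, inv_one, mul_one, mul_inv_eq_iff_eq_mul] at h1
    exact h1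
  · rintro i _ ⟨a, rfl⟩
    rfl
  · rintro H' hH' hr' s hs hs1 ⟨k, hk⟩ i _ ⟨a, rfl⟩
    refine blk_comm_of_cpt hs1 ?_ a
    have hN := hH'.inf_normal_subgroupOf (N := (SemidirectProduct.rightHom (φ := shiftAut A B ι)).ker)
    have hX := hN.map (cpt_surjective (A := A) (B := B) i)
    have hno := noP_of_sylow (r := r) (hA2 i) (hb i) _ hX ?_
    · -- the component is trivial
      let s' : (SemidirectProduct.rightHom (φ := shiftAut A B ι)).ker := ⟨s, hs1⟩
      have hm : cpt i s' ∈ ((H' ⊓ (SemidirectProduct.rightHom (φ := shiftAut A B ι)).ker).subgroupOf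
          (SemidirectProduct.rightHom (φ := shiftAut A B ι)).ker).map (cpt i) := ⟨s', ⟨hs, hs1⟩, rfl⟩
      have h2 : (cpt i s') ^ p ^ k = 1 := by
        rw [← map_pow]
        have : s' ^ p ^ k = 1 := Subtype.ext hk
        rw [this, map_one]
      have h3 : orderOf (cpt i s') ∣ p ^ k := orderOf_dvd_of_pow_eq_one h2
      have h4 : orderOf (cpt i s') ∣ Nat.card (((H' ⊓ (SemidirectProduct.rightHom (φ := shiftAut A B ι)).ker).subgroupOf
          (SemidirectProduct.rightHom (φ := shiftAut A B ι)).ker).map (cpt i)) := by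
        rw [← Subgroup.orderOf_mk _ hm]
        exact orderOf_dvd_natCard _
      have h5 : orderOf (cpt i s') = 1 := by
        refine Nat.eq_one_of_dvd_coprimes ?_ h3 h4
        exact Nat.Coprime.pow_left _ ((Nat.Prime.coprime_iff_not_dvd hp.1).2 hno)
      rw [orderOf_eq_one_iff] at h5
      have h6 : s.left.1 i = 1 := h5
      intro a
      rw [h6, one_mul, mul_one]
    · intro hd
      apply hr'
      refine hd.trans ?_
      refine (Subgroup.card_map_dvd _ _).trans ?_
      rw [Nat.card_congr (subgroupOfEquivOfLe (inf_le_right : H' ⊓ (SemidirectProduct.rightHom (φ := shiftAut A B ι)).ker ≤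
        (SemidirectProduct.rightHom (φ := shiftAut A B ι)).ker)).toEquiv]
      exact card_dvd_of_le inf_le_left
  · intro i
    rw [← card_sylow_congr (MonoidHom.ofInjective (blk_injective (A := A) (B := B) i))]
    exact hb i
  · rintro s ⟨k, hk⟩ hcomm
    have hnt : Nontrivial A := by
      rw [← Finite.one_lt_card_iff_nontrivial]
      exact lt_of_lt_of_le hp.out.one_lt (Nat.le_of_dvd Nat.card_pos hA)
    have hs1 : s.right = 1 := by
      refine Equiv.ext fun i => ?_
      obtain ⟨a, ha⟩ := exists_ne (1 : A)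
      have h1 := hcomm i _ ⟨a, rfl⟩
      have h2 := conj_blk s i a
      rw [h1, mul_inv_cancel_right] at h2
      by_contra hne
      have h3 := congrArg (fun t : WS A B ι => t.left.1 i) h2
      simp only [blk_left, Pi.mulSingle_eq_same] at h3
      have h4 : i ≠ s.right i := fun h => hne h.symm
      rw [Pi.mulSingle_eq_of_ne h4] at h3
      exact ha h3
    have hpow : ∀ n : ℕ, (s ^ n).right = 1 ∧ (s ^ n).left = s.left ^ n := by
      intro n
      induction n with
      | zero =>
        rw [pow_zero, pow_zero]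
        exact ⟨rfl, rfl⟩
      | succ n ih =>
        rw [pow_succ, pow_succ, SemidirectProduct.mul_right, SemidirectProduct.mul_left, ih.1, ih.2, hs1, map_one]
        exact ⟨rfl, rfl⟩
    have hsk : s.left ^ p ^ k = 1 := by
      rw [← (hpow _).2, hk]
      rfl
    have hcp : ∀ i : ι, s.left.1 i = 1 := by
      intro i
      refine central_eq_one (p := p) hr.out.ne_one (hA2 i) (hb i) ⟨k, ?_⟩ ?_
      · have := congrArg (fun t : (ι → A) × B => t.1 i) hsk
        exact this
      · intro a
        have h1 := hcomm i _ ⟨a, rfl⟩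
        have h2 := conj_blk s i a
        rw [h1, mul_inv_cancel_right, hs1] at h2
        have h3 := blk_injective (A := A) (B := B) i h2
        simp only [Perm.coe_one, id_eq] at h3
        rw [eq_mul_inv_iff_mul_eq] at h3
        exact h3.symm
    have hbt : s.left.2 = 1 := by
      have h1 : s.left.2 ^ p ^ k = 1 := congrArg Prod.snd hsk
      have h3 : orderOf s.left.2 ∣ p ^ k := orderOf_dvd_of_pow_eq_one h1
      have h5 : orderOf s.left.2 = 1 :=
        Nat.eq_one_of_dvd_coprimes (Nat.Coprime.pow_left _ ((Nat.Prime.coprime_iff_not_dvd hp.1).2 hB)) h3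
          (orderOf_dvd_natCard _)
      exact orderOf_eq_one_iff.1 h5
    exact SemidirectProduct.ext (Prod.ext (funext hcp) hbt) hs1

end Wreath

end Cfsg.Agent.H388.KW
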